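/-
Certificate data of a coset enumeration.
-/
import Cfsg.Agent.Lib.CosetEnum.G24Z.Data

set_option autoImplicit false
set_option maxRecDepth 1000000

namespace CfsgLib.CosetEnum.G24Z

open CfsgLib.CosetEnum

/-- Completion of the rows from 0. -/
def rows0 : List (List ℕ) := [[0x6a00000002, 0x7000001002, 0x7100002002, 0x7600003002, 0x7700004002, 0x6e00005002]]

theorem rows0_ok : okRows data table 120 0 rows0 = true := by decide +kernel

theorem rows0_len : rows0.length = 1 := by decide +kernel

end CfsgLib.CosetEnum.G24Z
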